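import Mathlib

/-!
The filtration of the nonsingular points of a Weierstrass cubic all of whose coefficients are small,
in the chart `z = -x/y`, `w = -1/y`.
-/

set_option autoImplicit false

namespace Groth.Agent.EllAddTors

open WeierstrassCurve

variable {K Γ : Type*} [Field K] [DecidableEq K] [LinearOrderedCommGroupWithZero Γ]

/-- All coefficients have valuation `< 1`. -/
structure Small (v : Valuation K Γ) (W : Affine K) : Prop where
  a₁ : v W.a₁ < 1
  a₂ : v W.a₂ < 1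
  a₃ : v W.a₃ < 1
  a₄ : v W.a₄ < 1
  a₆ : v W.a₆ < 1

/-- The point does not reduce to the cusp `(0, 0)`. -/
def InE (v : Valuation K Γ) (W : Affine K) : W.Point → Prop
  | .zero => True
  | .some x y _ => ¬(v x < 1 ∧ v y < 1)

/-- The parameter `z = -x/y`. -/
def zc (W : Affine K) : W.Point → K
  | .zero => 0
  | .some x y _ => -x / y

variable {v : Valuation K Γ} {W : Affine K}

omit [DecidableEq K] in
theorem mul_small {a b : K} {g : Γ} (hg : 0 < g) (ha : v a < 1) (hb : v b ≤ g) : v (a * b) < g := by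
  rw [map_mul]
  rcases hb.lt_or_eq with h | h
  · exact lt_of_le_of_lt (mul_le_of_le_one_left' ha.le) h
  · rw [h]
    exact mul_lt_of_lt_one_left hg ha

omit [DecidableEq K] in
theorem mul_le_left {a b : K} {g : Γ} (ha : v a ≤ g) (hb : v b ≤ 1) : v (a * b) ≤ g := by
  rw [map_mul]
  exact (mul_le_of_le_one_right' hb).trans ha

omit [DecidableEq K] in
theorem mul_le_right {a b : K} {g : Γ} (ha : v a ≤ 1) (hb : v b ≤ g) : v (a * b) ≤ g := by
  rw [mul_comm]
  exact mul_le_left hb ha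

omit [DecidableEq K] in
theorem natCast_le (n : ℕ) : v (n : K) ≤ 1 := by
  induction n with
  | zero => simp
  | succ n ih => rw [Nat.cast_succ]; exact (v.map_add _ _).trans (max_le ih (by simp))

omit [DecidableEq K] in
/-- `1 + ε` is a unit. -/
theorem map_one_sub {e : K} (he : v e < 1) : v (1 - e) = 1 := by
  rw [sub_eq_add_neg]
  exact v.map_one_add_of_lt (by rwa [v.map_neg])

omit [DecidableEq K] in
theorem map_neg_one_add {e : K} (he : v e < 1) : v (-1 + e) = 1 := by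
  rw [show (-1 : K) + e = -(1 - e) by ring, v.map_neg, map_one_sub he]

/-- the coordinates of a point off the cusp -/
structure Coord (v : Valuation K Γ) (W : Affine K) (z w : K) : Prop where
  eqn : w = z ^ 3 + W.a₁ * z * w + W.a₂ * z ^ 2 * w + W.a₃ * w ^ 2 + W.a₄ * z * w ^ 2 + W.a₆ * w ^ 3
  z_le : v z ≤ 1
  w_le : v w ≤ 1

omit [DecidableEq K] in
theorem coord_of_nonsing (hW : Small v W) {x y : K} (h : W.Equation x y) (hx : ¬(v x < 1 ∧ v y < 1)) :
    y ≠ 0 ∧ 1 ≤ v y ∧ Coord v W (-x / y) (-1 / y) := by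
  rw [Affine.equation_iff] at h
  have key : v x ≤ v y ∧ 1 ≤ v y := by
    by_contra hc
    by_cases h1 : 1 ≤ v x
    · have hxy : v y < v x := by
        by_contra hh
        push Not at hh
        exact hc ⟨hh, h1.trans hh⟩
      have hx0 : 0 < v x := zero_lt_one.trans_le h1
      have hlin : ∀ {a b : K}, v a < 1 → v b ≤ v (x ^ 3) → v (a * b) < v (x ^ 3) :=
        fun ha hb => mul_small (by rw [map_pow]; exact pow_pos hx0 3) ha hb
      have h2 : v x ^ 2 ≤ v (x ^ 3) := by rw [map_pow]; exact pow_le_pow_right₀ h1 (by norm_num)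
      have h1' : v x ≤ v (x ^ 3) := by rw [map_pow]; exact le_self_pow h1 three_ne_zero
      have e : x ^ 3 = y ^ 2 + W.a₁ * (x * y) + W.a₃ * y - W.a₂ * x ^ 2 - W.a₄ * x - W.a₆ * 1 := by
        linear_combination -h
      have hlt : v (y ^ 2 + W.a₁ * (x * y) + W.a₃ * y - W.a₂ * x ^ 2 - W.a₄ * x - W.a₆ * 1) < v (x ^ 3) := by
        refine v.map_sub_lt (v.map_sub_lt (v.map_sub_lt (v.map_add_lt (v.map_add_lt ?_ ?_) ?_) ?_) ?_) ?_
        · rw [map_pow]
          exact lt_of_lt_of_le (pow_lt_pow_left₀ hxy zero_le two_ne_zero) h2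
        · refine hlin hW.a₁ (le_trans ?_ h2)
          rw [map_mul, sq]
          exact mul_le_mul_right hxy.le _
        · exact hlin hW.a₃ (hxy.le.trans h1')
        · exact hlin hW.a₂ (by rw [map_pow]; exact h2)
        · exact hlin hW.a₄ h1'
        · exact hlin hW.a₆ (by rw [map_one, map_pow]; exact one_le_pow₀ h1)
      exact hlt.ne (congrArg v e).symm
    · push Not at h1
      have hy : 1 ≤ v y := by
        by_contra hh
        push Not at hh
        exact hx ⟨h1, hh⟩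
      exact hc ⟨h1.le.trans hy, hy⟩
  have hy0 : y ≠ 0 := fun h0 => by
    have := key.2
    rw [h0, map_zero] at this
    exact not_lt.2 this zero_lt_one
  have hy1 : 0 < v y := zero_lt_one.trans_le key.2
  refine ⟨hy0, key.2, ⟨?_, ?_, ?_⟩⟩
  · field_simp
    linear_combination -h
  · rw [map_div₀, v.map_neg, div_le_one₀ hy1]
    exact key.1
  · rw [map_div₀, v.map_neg, map_one, div_le_one₀ hy1]
    exact key.2

omit [DecidableEq K] in
theorem Coord.w_le_z (hW : Small v W) {z w : K} (h : Coord v W z w) : v w ≤ v z := by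
  have hs : v (W.a₁ * z + W.a₂ * z ^ 2 + W.a₃ * w + W.a₄ * z * w + W.a₆ * w ^ 2) < 1 := by
    have hz := h.z_le
    have hw := h.w_le
    refine v.map_add_lt (v.map_add_lt (v.map_add_lt (v.map_add_lt ?_ ?_) ?_) ?_) ?_
    · exact mul_small zero_lt_one hW.a₁ hz
    · exact mul_small zero_lt_one hW.a₂ (by rw [map_pow]; exact pow_le_one₀ zero_le hz)
    · exact mul_small zero_lt_one hW.a₃ hw
    · rw [mul_assoc]
      exact mul_small zero_lt_one hW.a₄ (mul_le_left hz hw)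
    · exact mul_small zero_lt_one hW.a₆ (by rw [map_pow]; exact pow_le_one₀ zero_le hw)
  have e : w * (1 - (W.a₁ * z + W.a₂ * z ^ 2 + W.a₃ * w + W.a₄ * z * w + W.a₆ * w ^ 2)) = z ^ 3 := by
    linear_combination h.eqn
  have := congrArg v e
  rw [map_mul, map_one_sub hs, mul_one, map_pow] at this
  rw [this, show 3 = 2 + 1 from rfl, pow_succ]
  exact mul_le_of_le_one_left' (pow_le_one₀ zero_le h.z_le)

omit [DecidableEq K] in
/-- The slope in the chart and the correction term are small. -/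
theorem corr_small (hW : Small v W) {g : Γ} (hg : 0 < g) (hg1 : g ≤ 1) {l n : K} (hl : v l ≤ g) (hn : v n ≤ g) :
    v (W.a₁ * l + W.a₂ * n + W.a₃ * l ^ 2 + 2 * W.a₄ * l * n + 3 * W.a₆ * l ^ 2 * n) < g ∧
      v (1 + W.a₂ * l + W.a₄ * l ^ 2 + W.a₆ * l ^ 3) = 1 := by
  have hl1 := hl.trans hg1
  have hn1 := hn.trans hg1
  have hlp : ∀ k : ℕ, v (l ^ (k + 1)) ≤ g := fun k => by
    rw [pow_succ]
    exact mul_le_right (by rw [map_pow]; exact pow_le_one₀ zero_le hl1) hl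
  constructor
  · refine v.map_add_lt (v.map_add_lt (v.map_add_lt (v.map_add_lt ?_ ?_) ?_) ?_) ?_
    · exact mul_small hg hW.a₁ hl
    · exact mul_small hg hW.a₂ hn
    · exact mul_small hg hW.a₃ (hlp 1)
    · rw [show 2 * W.a₄ * l * n = W.a₄ * (2 * (l * n)) by ring]
      refine mul_small hg hW.a₄ (mul_le_right ?_ (mul_le_left hl hn1))
      exact_mod_cast natCast_le (v := v) 2
    · rw [show 3 * W.a₆ * l ^ 2 * n = W.a₆ * (3 * (l ^ 2 * n)) by ring]
      refine mul_small hg hW.a₆ (mul_le_right ?_ (mul_le_left (hlp 1) hn1))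
      exact_mod_cast natCast_le (v := v) 3
  · rw [add_assoc, add_assoc]
    refine v.map_one_add_of_lt (v.map_add_lt ?_ (v.map_add_lt ?_ ?_))
    · exact mul_small zero_lt_one hW.a₂ hl1
    · exact mul_small zero_lt_one hW.a₄ ((hlp 1).trans hg1)
    · exact mul_small zero_lt_one hW.a₆ ((hlp 2).trans hg1)

omit [DecidableEq K] in
theorem neg_est (hW : Small v W) {z w : K} (h : Coord v W z w) {g : Γ} (hg : 0 < g) (hz : v z ≤ g) :
    v (-1 + W.a₁ * z + W.a₃ * w) = 1 ∧ v (z / (-1 + W.a₁ * z + W.a₃ * w) + z) < g := by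
  have he : v (W.a₁ * z + W.a₃ * w) < 1 :=
    v.map_add_lt (mul_small zero_lt_one hW.a₁ h.z_le) (mul_small zero_lt_one hW.a₃ h.w_le)
  have hd : v (-1 + W.a₁ * z + W.a₃ * w) = 1 := by rw [add_assoc]; exact map_neg_one_add he
  have hd0 : -1 + W.a₁ * z + W.a₃ * w ≠ 0 := fun h0 => by rw [h0, map_zero] at hd; exact zero_ne_one hd
  refine ⟨hd, ?_⟩
  rw [show z / (-1 + W.a₁ * z + W.a₃ * w) + z =
    (W.a₁ * z + W.a₃ * w) * z / (-1 + W.a₁ * z + W.a₃ * w) by rw [div_add' _ _ _ hd0]; congr 1; ring,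
    map_div₀, hd, div_one]
  exact mul_small hg he hz

/-- The nonvertical line through two points off the cusp. -/
theorem line_est (hW : Small v W) {g : Γ} (hg : 0 < g) (hg1 : g ≤ 1) {x₁ y₁ x₂ y₂ : K}
    (h₁ : W.Equation x₁ y₁) (h₂ : W.Equation x₂ y₂) (hy₁ : y₁ ≠ 0) (hy₂ : y₂ ≠ 0)
    (c₁ : Coord v W (-x₁ / y₁) (-1 / y₁)) (c₂ : Coord v W (-x₂ / y₂) (-1 / y₂))
    (hz₁ : v (-x₁ / y₁) ≤ g) (hz₂ : v (-x₂ / y₂) ≤ g) (hxy : ¬(x₁ = x₂ ∧ y₁ = W.negY x₂ y₂)) :
    ∃ c : K, c ≠ 0 ∧ y₁ = W.slope x₁ x₂ y₁ y₂ * x₁ + c ∧ y₂ = W.slope x₁ x₂ y₁ y₂ * x₂ + c ∧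
      v (-W.slope x₁ x₂ y₁ y₂ / c) ≤ g ∧ v (-1 / c) ≤ g := by
  set z₁ := -x₁ / y₁ with hz₁d
  set w₁ := -1 / y₁ with hw₁d
  set z₂ := -x₂ / y₂ with hz₂d
  set w₂ := -1 / y₂ with hw₂d
  set ℓ := W.slope x₁ x₂ y₁ y₂ with hℓd
  set c := y₁ - ℓ * x₁ with hcd
  have hw₁ : v w₁ ≤ g := (c₁.w_le_z hW).trans hz₁
  have hw₂ : v w₂ ≤ g := (c₂.w_le_z hW).trans hz₂
  have hzw : ∀ {z w : K}, v z ≤ g → v w ≤ g → v (z * w) ≤ g := fun hz hw => mul_le_left hz (hw.trans hg1)
  have h2 : v (2 : K) ≤ 1 := by exact_mod_cast natCast_le (v := v) 2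
  have h3 : v (3 : K) ≤ 1 := by exact_mod_cast natCast_le (v := v) 3
  have main : c ≠ 0 ∧ y₂ = ℓ * x₂ + c ∧ v (ℓ / c) ≤ g := by
    by_cases hx : x₁ = x₂
    · have hy : y₁ ≠ W.negY x₂ y₂ := fun h => hxy ⟨hx, h⟩
      obtain rfl : y₁ = y₂ := Affine.Y_eq_of_Y_ne h₁ h₂ hx hy
      subst hx
      set Gs := W.a₁ * z₁ * w₁ + W.a₃ * w₁ ^ 2 - 2 * w₁ with hGs
      set Gz := 3 * z₁ ^ 2 + W.a₁ * w₁ + 2 * W.a₂ * z₁ * w₁ + W.a₄ * w₁ ^ 2 with hGz
      set e := W.a₁ * z₁ + W.a₂ * z₁ ^ 2 + 2 * W.a₃ * w₁ + 2 * W.a₄ * z₁ * w₁ + 3 * W.a₆ * w₁ ^ 2 with he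
      have hd : y₁ - W.negY x₁ y₁ ≠ 0 := sub_ne_zero.2 hy
      have hℓ : ℓ * (2 * y₁ + W.a₁ * x₁ + W.a₃) = 3 * x₁ ^ 2 + 2 * W.a₂ * x₁ + W.a₄ - W.a₁ * y₁ := by
        rw [hℓd, Affine.slope_of_Y_ne rfl hy, show 2 * y₁ + W.a₁ * x₁ + W.a₃ = y₁ - W.negY x₁ y₁ by
          rw [Affine.negY]; ring, div_mul_cancel₀ _ hd]
      have hGs' : Gs * y₁ ^ 2 = 2 * y₁ + W.a₁ * x₁ + W.a₃ := by
        simp only [hGs, hz₁d, hw₁d]; field_simp; ring
      have hGz' : Gz * y₁ ^ 2 = 3 * x₁ ^ 2 + 2 * W.a₂ * x₁ + W.a₄ - W.a₁ * y₁ := by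
        simp only [hGz, hz₁d, hw₁d]; field_simp; ring
      have hℓG : ℓ * Gs = Gz := by
        apply mul_right_cancel₀ (pow_ne_zero 2 hy₁)
        rw [mul_assoc, hGs', hGz', hℓ]
      have hGs0 : Gs ≠ 0 := fun h0 => by
        rw [h0, zero_mul] at hGs'
        refine hd ?_
        rw [Affine.negY]
        linear_combination -hGs'
      have heu : v e < 1 := by
        refine v.map_add_lt (v.map_add_lt (v.map_add_lt (v.map_add_lt ?_ ?_) ?_) ?_) ?_
        · exact mul_small zero_lt_one hW.a₁ c₁.z_le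
        · exact mul_small zero_lt_one hW.a₂ (by rw [map_pow]; exact pow_le_one₀ zero_le c₁.z_le)
        · rw [mul_comm 2, mul_assoc]
          exact mul_small zero_lt_one hW.a₃ (mul_le_left h2 c₁.w_le)
        · rw [show 2 * W.a₄ * z₁ * w₁ = W.a₄ * (2 * (z₁ * w₁)) by ring]
          exact mul_small zero_lt_one hW.a₄ (mul_le_left h2 (mul_le_left c₁.z_le c₁.w_le))
        · rw [mul_comm 3, mul_assoc]
          exact mul_small zero_lt_one hW.a₆ (mul_le_left h3 (by rw [map_pow]; exact pow_le_one₀ zero_le c₁.w_le))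
      have hGw : v (-1 + e) = 1 := map_neg_one_add heu
      have hc : c * Gs = -1 + e := by
        have h0 := c₁.eqn
        have hx₁ : x₁ = z₁ / w₁ := by simp only [hz₁d, hw₁d]; field_simp
        have hy₁' : y₁ = -1 / w₁ := by simp only [hw₁d]; field_simp
        have hw0 : w₁ ≠ 0 := div_ne_zero (neg_ne_zero.2 one_ne_zero) hy₁
        rw [hcd, sub_mul, show ℓ * x₁ * Gs = ℓ * Gs * x₁ by ring, hℓG, hx₁, hy₁']
        field_simp
        simp only [hGs, hGz, he]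
        linear_combination 3 * h0
      have hc0 : c ≠ 0 := fun h0 => by
        rw [h0, zero_mul] at hc
        rw [← hc, map_zero] at hGw
        exact zero_ne_one hGw
      refine ⟨hc0, by rw [hcd]; ring, ?_⟩
      have : ℓ / c = Gz / (-1 + e) := by
        rw [← hℓG, ← hc, mul_div_mul_right _ _ hGs0]
      rw [this, map_div₀, hGw, div_one]
      refine v.map_add_le (v.map_add_le (v.map_add_le ?_ ?_) ?_) ?_
      · exact mul_le_right h3 (by rw [sq]; exact hzw hz₁ hz₁)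
      · exact mul_le_right hW.a₁.le hw₁
      · rw [mul_assoc]
        exact mul_le_right (by rw [map_mul]; exact mul_le_one' h2 hW.a₂.le) (hzw hz₁ hw₁)
      · exact mul_le_right hW.a₄.le (by rw [sq]; exact hzw hw₁ hw₁)
    · have hℓ : ℓ * (x₁ - x₂) = y₁ - y₂ := by
        rw [hℓd, Affine.slope_of_X_ne hx, div_mul_cancel₀ _ (sub_ne_zero.2 hx)]
      have hline : y₂ = ℓ * x₂ + c := by rw [hcd]; linear_combination hℓ
      set e := W.a₁ * z₁ + W.a₂ * z₁ ^ 2 + W.a₃ * (w₁ + w₂) + W.a₄ * z₁ * (w₁ + w₂) +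
        W.a₆ * (w₁ ^ 2 + w₁ * w₂ + w₂ ^ 2) with he
      set N := z₁ ^ 2 + z₁ * z₂ + z₂ ^ 2 + W.a₁ * w₂ + W.a₂ * (z₁ + z₂) * w₂ + W.a₄ * w₂ ^ 2 with hN
      have hdiff : (w₁ - w₂) * (1 - e) = (z₁ - z₂) * N := by
        simp only [he, hN]
        linear_combination c₁.eqn - c₂.eqn
      have heu : v e < 1 := by
        have hs : v (w₁ + w₂) ≤ 1 := v.map_add_le c₁.w_le c₂.w_le
        refine v.map_add_lt (v.map_add_lt (v.map_add_lt (v.map_add_lt ?_ ?_) ?_) ?_) ?_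
        · exact mul_small zero_lt_one hW.a₁ c₁.z_le
        · exact mul_small zero_lt_one hW.a₂ (by rw [map_pow]; exact pow_le_one₀ zero_le c₁.z_le)
        · exact mul_small zero_lt_one hW.a₃ hs
        · rw [mul_assoc]
          exact mul_small zero_lt_one hW.a₄ (mul_le_left c₁.z_le hs)
        · refine mul_small zero_lt_one hW.a₆ (v.map_add_le (v.map_add_le ?_ ?_) ?_)
          · rw [map_pow]; exact pow_le_one₀ zero_le c₁.w_le
          · exact mul_le_left c₁.w_le c₂.w_le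
          · rw [map_pow]; exact pow_le_one₀ zero_le c₂.w_le
      have heu0 : (1 : K) - e ≠ 0 := fun h0 => by
        have := map_one_sub (v := v) heu
        rw [h0, map_zero] at this
        exact zero_ne_one this
      have hne : z₁ ≠ z₂ := fun h => by
        rw [h, sub_self, zero_mul, mul_eq_zero, sub_eq_zero, or_iff_left heu0] at hdiff
        have hyy : y₁ = y₂ := by
          simp only [hw₁d, hw₂d] at hdiff
          field_simp at hdiff
          linear_combination hdiff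
        refine hx ?_
        simp only [hz₁d, hz₂d, hyy] at h
        field_simp at h
        linear_combination -h
      have hc0 : c ≠ 0 := fun h0 => by
        have ey₁ : y₁ = ℓ * x₁ := sub_eq_zero.1 (hcd ▸ h0)
        rw [h0, add_zero] at hline
        refine hne ?_
        simp only [hz₁d, hz₂d]
        rw [div_eq_div_iff hy₁ hy₂]
        rw [ey₁, hline]
        ring
      refine ⟨hc0, hline, ?_⟩
      have hl : (w₁ - w₂) = (-ℓ / c) * (z₁ - z₂) := by
        simp only [hw₁d, hw₂d, hz₁d, hz₂d]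
        field_simp
        rw [hcd]
        linear_combination -(y₁ : K) * hℓ
      rw [hl] at hdiff
      have h4 : -ℓ / c * (1 - e) = N := mul_left_cancel₀ (sub_ne_zero.2 hne) (by linear_combination hdiff)
      have h5 := congrArg v h4
      rw [map_mul, map_one_sub heu, mul_one, neg_div, v.map_neg] at h5
      rw [h5]
      refine v.map_add_le (v.map_add_le (v.map_add_le (v.map_add_le (v.map_add_le ?_ ?_) ?_) ?_) ?_) ?_
      · rw [sq]; exact hzw hz₁ hz₁
      · exact hzw hz₁ hz₂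
      · rw [sq]; exact hzw hz₂ hz₂
      · exact mul_le_right hW.a₁.le hw₂
      · rw [mul_assoc]
        exact mul_le_right hW.a₂.le (hzw (v.map_add_le hz₁ hz₂) hw₂)
      · exact mul_le_right hW.a₄.le (by rw [sq]; exact hzw hw₂ hw₂)
  obtain ⟨hc0, hline, hlam⟩ := main
  have hlam' : v (-ℓ / c) ≤ g := by rwa [neg_div, v.map_neg]
  have hn : -1 / c = w₁ - (-ℓ / c) * z₁ := by
    simp only [hw₁d, hz₁d]
    field_simp
    rw [hcd]
    ring
  refine ⟨c, hc0, by rw [hcd]; ring, hline, hlam', ?_⟩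
  rw [hn]
  exact v.map_sub_le hw₁ (mul_le_left hlam' c₁.z_le)

/-- Additivity of the parameter modulo higher order terms. -/
theorem add_est (hW : Small v W) {g : Γ} (hg : 0 < g) (hg1 : g ≤ 1) (P Q : W.Point)
    (hP : InE v W P) (hQ : InE v W Q) (hzP : v (zc W P) ≤ g) (hzQ : v (zc W Q) ≤ g) :
    InE v W (P + Q) ∧ v (zc W (P + Q) - zc W P - zc W Q) < g := by
  rcases P with _ | ⟨x₁, y₁, h₁⟩
  · rw [show (Affine.Point.zero : W.Point) = 0 from rfl, zero_add]
    refine ⟨hQ, ?_⟩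
    rw [show zc W 0 = 0 from rfl, sub_zero, sub_self, map_zero]
    exact hg
  rcases Q with _ | ⟨x₂, y₂, h₂⟩
  · rw [show (Affine.Point.zero : W.Point) = 0 from rfl, add_zero]
    refine ⟨hP, ?_⟩
    rw [show zc W 0 = 0 from rfl, sub_self, sub_zero, map_zero]
    exact hg
  obtain ⟨hy₁, -, c₁⟩ := coord_of_nonsing hW h₁.1 hP
  obtain ⟨hy₂, -, c₂⟩ := coord_of_nonsing hW h₂.1 hQ
  by_cases hxy : x₁ = x₂ ∧ y₁ = W.negY x₂ y₂
  · rw [Affine.Point.add_of_Y_eq hxy.1 hxy.2]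
    refine ⟨trivial, ?_⟩
    obtain ⟨rfl, rfl⟩ := hxy
    obtain ⟨hd, hest⟩ := neg_est hW c₂ hg hzQ
    rw [show zc W 0 = 0 from rfl]
    have : -x₁ / W.negY x₁ y₂ = -x₁ / y₂ / (-1 + W.a₁ * (-x₁ / y₂) + W.a₃ * (-1 / y₂)) := by
      rw [div_div]
      congr 1
      rw [Affine.negY]
      field_simp
      ring
    show v (0 - -x₁ / W.negY x₁ y₂ - -x₁ / y₂) < g
    rw [zero_sub, sub_eq_add_neg, ← neg_add, v.map_neg, this]
    exact hest
  · rw [Affine.Point.add_some hxy]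
    obtain ⟨c, hc0, hyl₁, hyl₂, hl, hn⟩ := line_est hW hg hg1 h₁.1 h₂.1 hy₁ hy₂ c₁ c₂ hzP hzQ hxy
    set ℓ := W.slope x₁ x₂ y₁ y₂ with hℓd
    set x₃ := W.addX x₁ x₂ ℓ with hx₃d
    set y₃ := ℓ * x₃ + c with hy₃d
    have hneg : W.negAddY x₁ x₂ y₁ ℓ = y₃ := by
      rw [Affine.negAddY, hy₃d, ← hx₃d]
      linear_combination hyl₁
    obtain ⟨hB, hA⟩ := corr_small hW hg hg1 hl hn
    set A := 1 + W.a₂ * (-ℓ / c) + W.a₄ * (-ℓ / c) ^ 2 + W.a₆ * (-ℓ / c) ^ 3 with hAd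
    set B := W.a₁ * (-ℓ / c) + W.a₂ * (-1 / c) + W.a₃ * (-ℓ / c) ^ 2 + 2 * W.a₄ * (-ℓ / c) * (-1 / c) +
      3 * W.a₆ * (-ℓ / c) ^ 2 * (-1 / c) with hBd
    have hpoly := Affine.addPolynomial_slope h₁.1 h₂.1 hxy
    rw [Affine.addPolynomial_eq, neg_inj, Cubic.prod_X_sub_C_eq, Cubic.toPoly_injective] at hpoly
    have e1 := congrArg Cubic.b hpoly
    have e2 := congrArg Cubic.c hpoly
    have e3 := congrArg Cubic.d hpoly
    simp only [← hℓd, ← hx₃d] at e1 e2 e3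
    rw [hyl₁] at e2 e3
    have hA0 : A ≠ 0 := fun h0 => by rw [h0, map_zero] at hA; exact zero_ne_one hA
    have hprod : (ℓ * x₁ + c) * (ℓ * x₂ + c) * (ℓ * x₃ + c) = c ^ 3 * A := by
      rw [hAd]
      field_simp
      linear_combination (ℓ * c ^ 2) * e1 + (-ℓ ^ 2 * c) * e2 + (ℓ ^ 3) * e3
    have hsum : x₁ * ((ℓ * x₂ + c) * (ℓ * x₃ + c)) + x₂ * ((ℓ * x₁ + c) * (ℓ * x₃ + c)) +
        x₃ * ((ℓ * x₁ + c) * (ℓ * x₂ + c)) = c ^ 3 * B := by
      rw [hBd]
      field_simp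
      linear_combination (c ^ 2) * e1 + (-2 * ℓ * c) * e2 + (3 * ℓ ^ 2) * e3
    rw [← hyl₁, ← hyl₂, ← hy₃d] at hprod hsum
    clear_value A B y₃
    have hy₃ : y₃ ≠ 0 := fun h0 => by
      rw [h0, mul_zero] at hprod
      exact mul_ne_zero (pow_ne_zero 3 hc0) hA0 hprod.symm
    have hz' : -x₃ / y₃ = -(-x₁ / y₁) - (-x₂ / y₂) - B / A := by
      have : B / A = c ^ 3 * B / (c ^ 3 * A) := (mul_div_mul_left _ _ (pow_ne_zero 3 hc0)).symm
      rw [this, ← hprod, ← hsum]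
      field_simp
      ring
    have hw' : -1 / y₃ = -ℓ / c * (-x₃ / y₃) + -1 / c := by
      field_simp
      linear_combination hy₃d
    have hBA : v (B / A) < g := by rw [map_div₀, hA, div_one]; exact hB
    have hz'g : v (-x₃ / y₃) ≤ g := by
      rw [hz']
      refine v.map_sub_le (v.map_sub_le ?_ hzQ) hBA.le
      rw [v.map_neg]
      exact hzP
    have hw'g : v (-1 / y₃) ≤ g := by
      rw [hw']
      exact v.map_add_le (mul_le_left hl (hz'g.trans hg1)) hn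
    have hy₃1 : 1 ≤ v y₃ := by
      have := hw'g.trans hg1
      rwa [map_div₀, v.map_neg, map_one, div_le_one₀ (zero_lt_iff.2 ((map_ne_zero v).2 hy₃))] at this
    have heq₃ : W.Equation x₃ y₃ := hneg ▸ Affine.equation_negAdd h₁.1 h₂.1 hxy
    obtain ⟨-, -, c₃⟩ := coord_of_nonsing hW heq₃ fun h => not_lt.2 hy₃1 h.2
    obtain ⟨hd, hest⟩ := neg_est hW c₃ hg hz'g
    have hden : W.negY x₃ y₃ = y₃ * (-1 + W.a₁ * (-x₃ / y₃) + W.a₃ * (-1 / y₃)) := by
      rw [Affine.negY]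
      field_simp
      ring
    have hyy : W.addY x₁ x₂ y₁ ℓ = W.negY x₃ y₃ := by rw [Affine.addY, ← hx₃d, hneg]
    refine ⟨fun h => ?_, ?_⟩
    · refine not_lt.2 hy₃1 ?_
      have := h.2
      rw [hyy, hden, map_mul, hd, mul_one] at this
      exact this
    · show v (-x₃ / W.addY x₁ x₂ y₁ ℓ - -x₁ / y₁ - -x₂ / y₂) < g
      rw [hyy, hden, ← div_div]
      have e : -x₃ / y₃ / (-1 + W.a₁ * (-x₃ / y₃) + W.a₃ * (-1 / y₃)) - -x₁ / y₁ - -x₂ / y₂ =
          (-x₃ / y₃ / (-1 + W.a₁ * (-x₃ / y₃) + W.a₃ * (-1 / y₃)) + -x₃ / y₃) + B / A := by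
        linear_combination (-1 : K) * hz'
      rw [e]
      exact v.map_add_lt hest hBA

end Groth.Agent.EllAddTors
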