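import Groth.Agent.EllAddTors.Shift
import Mathlib

/-!
A point of order `n ≥ 5`, `n` prime to the residue characteristic, forces semistable reduction.
-/

set_option autoImplicit false
set_option linter.style.haveILetI false

namespace Groth.Agent.EllAddTors

open WeierstrassCurve WithZero IsDiscreteValuationRing

/-- Over an algebraically closed field, a cubic with `Δ = c₄ = 0` can be brought to `y² = x³`. -/
theorem exists_cusp {k : Type*} [Field k] [IsAlgClosed k] (W : WeierstrassCurve k) (hΔ : W.Δ = 0)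
    (hc : W.c₄ = 0) : ∃ r s t : k, (VariableChange.mk 1 r s t • W).a₁ = 0 ∧
      (VariableChange.mk 1 r s t • W).a₂ = 0 ∧ (VariableChange.mk 1 r s t • W).a₃ = 0 ∧
      (VariableChange.mk 1 r s t • W).a₄ = 0 ∧ (VariableChange.mk 1 r s t • W).a₆ = 0 := by
  simp only [variableChange_def, inv_one, Units.val_one, one_pow, one_mul]
  by_cases h2 : (2 : k) = 0
  · have hb2 : W.a₁ ^ 2 = W.b₂ := by simp only [b₂]; linear_combination (-2 * W.a₂) * h2
    have hc' : W.a₁ = 0 := by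
      have : W.b₂ ^ 2 = 0 := by
        rw [c₄] at hc
        linear_combination hc + (12 * W.b₄) * h2
      rw [← hb2, ← pow_mul] at this
      exact pow_eq_zero_iff (by norm_num) |>.1 this
    have ha3 : W.a₃ = 0 := by
      have h4 : W.a₃ ^ 4 = 0 := by
        simp only [Δ, b₂, b₄, b₆, b₈, hc'] at hΔ
        linear_combination hΔ + (32 * W.a₂ ^ 2 * (W.a₂ * W.a₆ * 4 + W.a₂ * W.a₃ ^ 2 - W.a₄ ^ 2) / 4) * 0 +
          (8 * W.a₂ ^ 2 * (4 * W.a₂ * W.a₆ + W.a₂ * W.a₃ ^ 2 - W.a₄ ^ 2) + 32 * W.a₄ ^ 3 + 14 * W.a₃ ^ 4 +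
            108 * W.a₃ ^ 2 * W.a₆ + 216 * W.a₆ ^ 2 - 36 * W.a₂ * W.a₄ * (W.a₃ ^ 2 + 4 * W.a₆)) * h2
      exact pow_eq_zero_iff (by norm_num) |>.1 h4
    obtain ⟨r, hr⟩ := IsAlgClosed.exists_eq_mul_self W.a₄
    obtain ⟨s, hs⟩ := IsAlgClosed.exists_eq_mul_self (W.a₂ + r)
    obtain ⟨t, ht⟩ := IsAlgClosed.exists_eq_mul_self (W.a₆ + r * W.a₄ + r ^ 2 * W.a₂ + r ^ 3)
    refine ⟨r, s, t, ?_, ?_, ?_, ?_, ?_⟩
    · linear_combination hc' + s * h2
    · linear_combination hs + r * h2 - s * hc'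
    · linear_combination ha3 + r * hc' + t * h2
    · linear_combination hr + (2 * r ^ 2 + r * W.a₂ - s * t) * h2 - s * ha3 - (t + r * s) * hc'
    · linear_combination ht - t * ha3 - r * t * hc'
  · obtain ⟨r, h1, h2', h3⟩ : ∃ r : k, W.b₂ + 12 * r = 0 ∧ W.b₄ + r * W.b₂ + 6 * r ^ 2 = 0 ∧
        W.b₆ + 2 * r * W.b₄ + r ^ 2 * W.b₂ + 4 * r ^ 3 = 0 := by
      by_cases h3 : (3 : k) = 0
      · have hb2 : W.b₂ = 0 := by
          rw [c₄] at hc
          exact pow_eq_zero_iff (n := 2) (by norm_num) |>.1 (by linear_combination hc + (8 * W.b₄) * h3)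
        have hb4 : W.b₄ = 0 := by
          rw [Δ, hb2] at hΔ
          exact pow_eq_zero_iff (n := 3) (by norm_num) |>.1
            (by linear_combination hΔ + (3 * W.b₄ ^ 3 + 9 * W.b₆ ^ 2) * h3)
        obtain ⟨r, hr⟩ := IsAlgClosed.exists_pow_nat_eq (-W.b₆) (show 0 < 3 by norm_num)
        refine ⟨r, ?_, ?_, ?_⟩
        · linear_combination hb2 + 4 * r * h3
        · linear_combination hb4 + r * hb2 + 2 * r ^ 2 * h3
        · linear_combination hr + 2 * r * hb4 + r ^ 2 * hb2 + r ^ 3 * h3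
      · have h12 : (12 : k) ≠ 0 := by
          rw [show (12 : k) = 2 * 2 * 3 by norm_num]
          exact mul_ne_zero (mul_ne_zero h2 h2) h3
        let C : VariableChange k := ⟨1, -W.b₂ / 12, 0, 0⟩
        have hb2 : (C • W).b₂ = 0 := by
          rw [variableChange_b₂]
          simp only [C, inv_one, Units.val_one, one_pow, one_mul]
          field_simp
          ring
        have hb4 : (C • W).b₄ = 0 := by
          have h0 : (C • W).c₄ = 0 := by rw [variableChange_c₄, hc, mul_zero]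
          rw [c₄, hb2] at h0
          have h24 : (24 : k) ≠ 0 := by
            rw [show (24 : k) = 2 * 12 by norm_num]
            exact mul_ne_zero h2 h12
          exact mul_left_cancel₀ h24 (by linear_combination -h0)
        have hb6 : (C • W).b₆ = 0 := by
          have h0 : (C • W).Δ = 0 := by rw [variableChange_Δ, hΔ, mul_zero]
          rw [Δ, hb2, hb4] at h0
          have h27 : (27 : k) ≠ 0 := by
            rw [show (27 : k) = 3 * 3 * 3 by norm_num]
            exact mul_ne_zero (mul_ne_zero h3 h3) h3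
          exact pow_eq_zero_iff (n := 2) (by norm_num) |>.1
            (mul_left_cancel₀ h27 (by linear_combination -h0))
        rw [variableChange_b₂] at hb2
        rw [variableChange_b₄] at hb4
        rw [variableChange_b₆] at hb6
        simp only [C, inv_one, Units.val_one, one_pow, one_mul] at hb2 hb4 hb6
        exact ⟨-W.b₂ / 12, hb2, hb4, hb6⟩
    simp only [b₂, b₄, b₆] at h1 h2' h3
    refine ⟨r, -W.a₁ / 2, -(W.a₃ + r * W.a₁) / 2, ?_, ?_, ?_, ?_, ?_⟩
    · field_simp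
      ring
    · field_simp
      linear_combination h1
    · field_simp
      ring
    · field_simp
      linear_combination h2'
    · field_simp
      linear_combination h3

/-- Integer valuations: below a value means at most one step below. -/
theorem le_exp_sub_one {x : ℤᵐ⁰} {n : ℤ} (h : x < exp n) : x ≤ exp (n - 1) := by
  rcases eq_or_ne x 0 with rfl | hx
  · exact zero_le
  · obtain ⟨m, rfl⟩ := ⟨log x, (exp_log hx).symm⟩ |> fun h : ∃ m, x = exp m => h
    rw [exp_lt_exp] at h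
    rw [exp_le_exp]
    omega

section Main

variable {K : Type*} [Field K] [DecidableEq K] (v : Valuation K ℤᵐ⁰)

theorem exists_some_eq {W : Affine K} {x y x' y' : K} (hx : x = x') (hy : y = y') (h : W.Nonsingular x y) :
    ∃ h', (Affine.Point.some x y h : W.Point) = Affine.Point.some x' y' h' := by
  subst hx hy
  exact ⟨h, rfl⟩

/-- The numerical heart: a point at the origin with horizontal tangent all of whose small multiples reduce to
the cusp makes the equation non-minimal. -/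
theorem small_origin (W : Affine K) (hW : Small v W) (h6 : W.a₆ = 0) (h4 : W.a₄ = 0) (h00 : W.Nonsingular 0 0)
    (hne : ∀ k : ℕ, 1 ≤ k → k ≤ 4 → k • (Affine.Point.some 0 0 h00 : W.Point) ≠ 0 ∧
      ¬InE v W (k • (Affine.Point.some 0 0 h00 : W.Point))) :
    v W.a₂ ≤ exp (-2) ∧ v W.a₃ ≤ exp (-3) := by
  set P : W.Point := Affine.Point.some 0 0 h00 with hP
  have ha3 : W.a₃ ≠ 0 := fun h => by
    have h2 := (hne 2 (by norm_num) (by norm_num)).1
    rw [two_nsmul, hP, Affine.Point.add_of_Y_eq rfl (by rw [Affine.negY, h]; ring)] at h2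
    exact h2 rfl
  have hy : (0 : K) ≠ W.negY 0 0 := by rw [Affine.negY]; simpa using (neg_ne_zero.2 ha3).symm
  have hs2 : W.slope 0 0 0 0 = 0 := by rw [Affine.slope_of_Y_ne rfl hy, h4]; simp
  obtain ⟨n2, e2⟩ : ∃ h, 2 • P = (Affine.Point.some (-W.a₂) (W.a₁ * W.a₂ - W.a₃) h : W.Point) := by
    rw [two_nsmul, hP, Affine.Point.add_of_Y_ne hy]
    refine exists_some_eq ?_ ?_ _
    · simp only [Affine.addX, hs2]; ring
    · simp only [Affine.addY, Affine.negY, Affine.negAddY, Affine.addX, hs2]; ring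
  have ha2 : W.a₂ ≠ 0 := fun h => by
    have h3 := (hne 3 (by norm_num) (by norm_num)).1
    rw [succ_nsmul, e2, hP, Affine.Point.add_of_Y_eq (by rw [h, neg_zero]) (by rw [Affine.negY, h]; ring)] at h3
    exact h3 rfl
  set D := W.a₃ - W.a₁ * W.a₂ with hD
  have hs3 : W.slope (-W.a₂) 0 (W.a₁ * W.a₂ - W.a₃) 0 = D / W.a₂ := by
    rw [Affine.slope_of_X_ne (neg_ne_zero.2 ha2), sub_zero, sub_zero, div_neg, ← neg_div, hD]
    congr 1
    ring
  obtain ⟨n3, e3⟩ : ∃ h, 3 • P = (Affine.Point.some (D * W.a₃ / W.a₂ ^ 2)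
      (-(D ^ 2 * W.a₃ / W.a₂ ^ 3) - W.a₁ * (D * W.a₃ / W.a₂ ^ 2) - W.a₃) h : W.Point) := by
    rw [succ_nsmul, e2, hP, Affine.Point.add_of_X_ne (neg_ne_zero.2 ha2)]
    have hx : W.addX (-W.a₂) 0 (W.slope (-W.a₂) 0 (W.a₁ * W.a₂ - W.a₃) 0) = D * W.a₃ / W.a₂ ^ 2 := by
      rw [Affine.addX, hs3, hD]; field_simp; ring
    have hy' : W.addY (-W.a₂) 0 (W.a₁ * W.a₂ - W.a₃) (W.slope (-W.a₂) 0 (W.a₁ * W.a₂ - W.a₃) 0) =
        -(D ^ 2 * W.a₃ / W.a₂ ^ 3) - W.a₁ * (D * W.a₃ / W.a₂ ^ 2) - W.a₃ := by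
      simp only [Affine.addY, Affine.negY, Affine.negAddY, hx]
      rw [hs3, hD]; field_simp; ring
    exact exists_some_eq hx hy' _
  have hD0 : D ≠ 0 := fun h => by
    have h4' := (hne 4 (by norm_num) (by norm_num)).1
    rw [succ_nsmul, e3, hP, Affine.Point.add_of_Y_eq (by rw [h]; ring)
      (by rw [Affine.negY, h]; ring)] at h4'
    exact h4' rfl
  set X3 := D * W.a₃ / W.a₂ ^ 2 with hX3
  have hX30 : X3 ≠ 0 := div_ne_zero (mul_ne_zero hD0 ha3) (pow_ne_zero 2 ha2)
  set M := W.a₂ ^ 2 / D with hM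
  set Y3 := -(D ^ 2 * W.a₃ / W.a₂ ^ 3) - W.a₁ * X3 - W.a₃ with hY3
  have hs4 : W.slope X3 0 Y3 0 = -(D / W.a₂) - W.a₁ - M := by
    rw [Affine.slope_of_X_ne hX30, hY3, hX3, hM, hD]
    have hD0' : W.a₃ - W.a₁ * W.a₂ ≠ 0 := hD0
    field_simp
    ring
  have hx3 : v X3 < 1 := by
    have h := (hne 3 (by norm_num) (by norm_num)).2
    rw [e3, InE, not_not] at h
    exact h.1
  have hx4 : v (M * (M + W.a₁) + W.a₂) < 1 := by
    have h := (hne 4 (by norm_num) (by norm_num)).2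
    rw [succ_nsmul, e3, hP, Affine.Point.add_of_X_ne hX30, InE, not_not] at h
    have hx : W.addX X3 0 (W.slope X3 0 Y3 0) = M * (M + W.a₁) + W.a₂ := by
      rw [Affine.addX, hs4, hX3, hM, hD]
      have hD0' : W.a₃ - W.a₁ * W.a₂ ≠ 0 := hD0
      field_simp
      ring
    rw [← hx]
    exact h.1
  have hMlt : v M < 1 := by
    by_contra hh
    push Not at hh
    have h1 : v (M + W.a₁) = v M := v.map_add_eq_of_lt_left (hW.a₁.trans_le hh)
    have h2 : (1 : ℤᵐ⁰) ≤ v (M * (M + W.a₁)) := by rw [map_mul, h1]; exact one_le_mul hh hh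
    have h3 := v.map_add_eq_of_lt_left (hW.a₂.trans_le h2)
    rw [h3] at hx4
    exact not_lt.2 h2 hx4
  obtain ⟨α, hα⟩ : ∃ a : ℤ, v W.a₂ = exp a := ⟨_, (exp_log ((map_ne_zero v).2 ha2)).symm⟩
  obtain ⟨γ, hγ⟩ : ∃ a : ℤ, v W.a₃ = exp a := ⟨_, (exp_log ((map_ne_zero v).2 ha3)).symm⟩
  obtain ⟨δ, hδ⟩ : ∃ a : ℤ, v D = exp a := ⟨_, (exp_log ((map_ne_zero v).2 hD0)).symm⟩
  have hα1 : α < 0 := by have := hW.a₂; rwa [hα, ← exp_zero, exp_lt_exp] at this
  have hγ1 : γ < 0 := by have := hW.a₃; rwa [hγ, ← exp_zero, exp_lt_exp] at this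
  have hX : δ + γ < 2 * α := by
    rw [hX3, map_div₀, map_mul, map_pow, hα, hγ, hδ, ← exp_add, ← exp_nsmul, div_lt_one₀ (exp_pos),
      exp_lt_exp] at hx3
    simpa using hx3
  have hMi : 2 * α < δ := by
    rw [hM, map_div₀, map_pow, hα, hδ, ← exp_nsmul, div_lt_one₀ (exp_pos), exp_lt_exp] at hMlt
    simpa using hMlt
  have h12 : v (W.a₁ * W.a₂) ≤ exp (α - 1) := by
    rw [map_mul, hα, show α - 1 = -1 + α by ring, exp_add]
    exact mul_le_mul_left (by simpa using le_exp_sub_one (n := 0) (by rw [exp_zero]; exact hW.a₁)) _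
  rw [hα, hγ, exp_le_exp, exp_le_exp]
  by_cases hg : α - 1 < γ
  · have : v D = v W.a₃ := by
      rw [hD, sub_eq_add_neg]
      refine v.map_add_eq_of_lt_left ?_
      rw [v.map_neg, hγ]
      exact h12.trans_lt (exp_lt_exp.2 hg)
    rw [hδ, hγ, exp_inj] at this
    omega
  · have : v D ≤ exp (α - 1) := v.map_sub_le (hγ ▸ exp_le_exp.2 (by omega)) h12
    rw [hδ, exp_le_exp] at this
    omega

end Main

/-- Small multiples of a point of large order prime to the residue characteristic reduce to the cusp. -/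
theorem multiples {K : Type*} [Field K] [DecidableEq K] {v : Valuation K ℤᵐ⁰} {W : Affine K} (hW : Small v W)
    (P : W.Point) {n : ℕ} (hn : 4 < n) (hv : v (n : K) = 1) (hP : addOrderOf P = n) (k : ℕ) (h1 : 1 ≤ k)
    (h4 : k ≤ 4) : k • P ≠ 0 ∧ ¬InE v W (k • P) := by
  have hne : k • P ≠ 0 := fun h => by
    have := Nat.le_of_dvd (by omega) (addOrderOf_dvd_iff_nsmul_eq_zero.2 h)
    omega
  refine ⟨hne, fun hE => hne (eq_zero_of_nsmul hW _ hE n hv ?_)⟩
  rw [smul_comm, ← hP, addOrderOf_nsmul_eq_zero, smul_zero]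

theorem map_shift {A B : Type*} [CommRing A] [CommRing B] (W : WeierstrassCurve A) (r s t : A) (f : A →+* B) :
    (VariableChange.mk 1 r s t • W).map f = VariableChange.mk 1 (f r) (f s) (f t) • W.map f := by
  rw [← WeierstrassCurve.map_variableChange]
  congr 1
  ext <;> simp [VariableChange.map]

theorem semistable_of_torsion (R : Type*) [CommRing R] [IsDomain R] [IsDiscreteValuationRing R]
    [IsAlgClosed (IsLocalRing.ResidueField R)] (K : Type*) [Field K] [DecidableEq K] [Algebra R K]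
    [IsFractionRing R K] (W : WeierstrassCurve K) [W.IsElliptic] [WeierstrassCurve.IsMinimal R W] (n : ℕ)
    (hn : 4 < n) (hk : (n : IsLocalRing.ResidueField R) ≠ 0) (P : W.toAffine.Point) (hP : addOrderOf P = n) :
    W.HasGoodReduction R ∨ W.HasMultiplicativeReduction R := by
  rcases hasGoodReduction_or_hasMultiplicativeReduction_or_hasAdditiveReduction (R := R) (W := W) with
    h | h | h
  · exact Or.inl h
  · exact Or.inr h
  exfalso
  let v := (maximalIdeal R).valuation K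
  have hlt : ∀ a : R, v (algebraMap R K a) < 1 ↔ IsLocalRing.residue R a = 0 := fun a => by
    rw [IsLocalRing.residue_eq_zero_iff]
    exact (maximalIdeal R).valuation_lt_one_iff_mem a
  set W₀ := integralModel R W with hW₀d
  have hW₀ : W₀.map (algebraMap R K) = W := baseChange_integralModel_eq R W
  let ρ := IsLocalRing.residue R
  obtain ⟨r₀, s₀, t₀, e1, e2, e3, e4, e6⟩ := exists_cusp (W₀.map ρ)
    (by rw [map_Δ]; exact (hlt _).1 (by rw [integralModel_Δ_eq]; exact h.badReduction))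
    (by rw [map_c₄]; exact (hlt _).1 (by rw [integralModel_c₄_eq]; exact h.additiveReduction))
  obtain ⟨r, rfl⟩ := IsLocalRing.residue_surjective r₀
  obtain ⟨s, rfl⟩ := IsLocalRing.residue_surjective s₀
  obtain ⟨t, rfl⟩ := IsLocalRing.residue_surjective t₀
  let W₁R := VariableChange.mk 1 r s t • W₀
  have hρ : W₁R.map ρ = _ := map_shift W₀ r s t ρ
  set W₁ : Affine K := shiftW W.toAffine (algebraMap R K r) (algebraMap R K s) (algebraMap R K t) with hW₁d
  have hW₁ : W₁R.map (algebraMap R K) = W₁ := (map_shift W₀ r s t (algebraMap R K)).trans (by rw [hW₀])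
  have hsmall : ∀ {a : R}, ρ a = 0 → v (algebraMap R K a) < 1 := fun ha => (hlt _).2 ha
  have hS₁ : Small v W₁ := by
    rw [← hW₁]
    constructor
    · exact hsmall (by rw [← map_a₁ (W := W₁R), hρ]; exact e1)
    · exact hsmall (by rw [← map_a₂ (W := W₁R), hρ]; exact e2)
    · exact hsmall (by rw [← map_a₃ (W := W₁R), hρ]; exact e3)
    · exact hsmall (by rw [← map_a₄ (W := W₁R), hρ]; exact e4)
    · exact hsmall (by rw [← map_a₆ (W := W₁R), hρ]; exact e6)
  have hvn : v (n : K) = 1 := by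
    refine le_antisymm (natCast_le n) (not_lt.1 fun hh => hk ?_)
    rw [← map_natCast (algebraMap R K)] at hh
    rw [← map_natCast ρ]
    exact (hlt _).1 hh
  haveI : W₁.IsElliptic := inferInstance
  set P₁ := shiftPt W.toAffine (algebraMap R K r) (algebraMap R K s) (algebraMap R K t) P with hP₁
  have hord : addOrderOf P₁ = n := (addOrderOf_shift _ _ _ _ P).trans hP
  have hm₁ := multiples hS₁ P₁ hn hvn hord
  rcases hP₁e : P₁ with _ | ⟨x, y, hxy⟩
  · exact (hm₁ 1 le_rfl (by norm_num)).1 (by rw [one_smul, hP₁e]; rfl)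
  have h1 := (hm₁ 1 le_rfl (by norm_num)).2
  rw [one_smul, hP₁e, InE, not_not] at h1
  have hy : y ≠ W₁.negY x y := fun hh => (hm₁ 2 (by norm_num) (by norm_num)).1
    (by rw [two_nsmul, hP₁e, Affine.Point.add_of_Y_eq rfl hh])
  set ℓ := W₁.slope x x y y with hℓd
  have h2 := (hm₁ 2 (by norm_num) (by norm_num)).2
  rw [two_nsmul, hP₁e, Affine.Point.add_of_Y_ne hy, InE, not_not] at h2
  have hℓ1 : v ℓ < 1 := by
    by_contra hh
    push Not at hh
    have e1 : v (ℓ + W₁.a₁) = v ℓ := v.map_add_eq_of_lt_left (hS₁.a₁.trans_le hh)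
    have e2 : (1 : ℤᵐ⁰) ≤ v (ℓ * (ℓ + W₁.a₁)) := by rw [map_mul, e1]; exact one_le_mul hh hh
    have e3 : v (ℓ * (ℓ + W₁.a₁) + (-W₁.a₂ - x - x)) = v (ℓ * (ℓ + W₁.a₁)) := by
      refine v.map_add_eq_of_lt_left (lt_of_lt_of_le ?_ e2)
      exact v.map_sub_lt (v.map_sub_lt (by rw [v.map_neg]; exact hS₁.a₂) h1.1) h1.1
    have e4 : W₁.addX x x ℓ = ℓ * (ℓ + W₁.a₁) + (-W₁.a₂ - x - x) := by rw [Affine.addX]; ring
    have := h2.1
    rw [e4, e3] at this
    exact not_lt.2 e2 this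
  have hℓ : ℓ * (2 * y + W₁.a₁ * x + W₁.a₃) = 3 * x ^ 2 + 2 * W₁.a₂ * x + W₁.a₄ - W₁.a₁ * y := by
    rw [hℓd, Affine.slope_of_Y_ne rfl hy, show 2 * y + W₁.a₁ * x + W₁.a₃ = y - W₁.negY x y by
      rw [Affine.negY]; ring, div_mul_cancel₀ _ (sub_ne_zero.2 hy)]
  set W₂ : Affine K := shiftW W₁ x ℓ y with hW₂d
  haveI : W₂.IsElliptic := inferInstance
  set P₂ := shiftPt W₁ x ℓ y P₁ with hP₂
  have hord₂ : addOrderOf P₂ = n := (addOrderOf_shift _ _ _ _ P₁).trans hord
  obtain ⟨h00, hP₂e⟩ : ∃ h, P₂ = (Affine.Point.some 0 0 h : W₂.Point) := by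
    rw [hP₂, hP₁e]
    exact exists_some_eq (sub_self x) (by ring) _
  have hv2 : v (2 : K) ≤ 1 := by exact_mod_cast natCast_le (v := v) 2
  have hv3 : v (3 : K) ≤ 1 := by exact_mod_cast natCast_le (v := v) 3
  have hmul : ∀ {a b : K}, v a ≤ 1 → v b < 1 → v (a * b) < 1 := fun ha hb => by
    rw [mul_comm]; exact mul_small zero_lt_one hb ha
  have h6 : W₂.a₆ = 0 := (Affine.equation_zero (W := W₂)).1 h00.1
  have h4' : W₂.a₄ = 0 := by
    simp only [hW₂d, shiftW, variableChange_def, inv_one, Units.val_one, one_pow, one_mul]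
    linear_combination -hℓ
  have hS₂ : Small v W₂ := by
    refine ⟨?_, ?_, ?_, ?_, ?_⟩
    · simp only [hW₂d, shiftW, variableChange_def, inv_one, Units.val_one, one_pow, one_mul]
      exact v.map_add_lt hS₁.a₁ (hmul hv2 hℓ1)
    · simp only [hW₂d, shiftW, variableChange_def, inv_one, Units.val_one, one_pow, one_mul]
      refine v.map_sub_lt (v.map_add_lt (v.map_sub_lt hS₁.a₂ (hmul hℓ1.le hS₁.a₁)) (hmul hv3 h1.1)) ?_
      rw [sq]; exact hmul hℓ1.le hℓ1
    · simp only [hW₂d, shiftW, variableChange_def, inv_one, Units.val_one, one_pow, one_mul]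
      exact v.map_add_lt (v.map_add_lt hS₁.a₃ (hmul h1.1.le hS₁.a₁)) (hmul hv2 h1.2)
    · rw [h4', map_zero]; exact zero_lt_one
    · rw [h6, map_zero]; exact zero_lt_one
  obtain ⟨hb, hc⟩ := small_origin v W₂ hS₂ h6 h4' h00 (fun k hk1 hk4 => by
    rw [← hP₂e]; exact multiples hS₂ P₂ hn hvn hord₂ k hk1 hk4)
  obtain ⟨π, hπ⟩ := (maximalIdeal R).valuation_exists_uniformizer K
  have hπ0 : π ≠ 0 := fun h0 => by rw [h0, map_zero] at hπ; exact exp_ne_zero hπ.symm
  let C₂ : VariableChange K := VariableChange.mk (Units.mk0 π hπ0) 0 0 0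
  let C : VariableChange K := C₂ * VariableChange.mk 1 x ℓ y *
    VariableChange.mk 1 (algebraMap R K r) (algebraMap R K s) (algebraMap R K t)
  have hC : C • W = C₂ • W₂ := by rw [mul_smul, mul_smul]
  have hπi : ∀ (i : ℕ) {a : K}, v a ≤ exp (-(i : ℤ)) → v (π⁻¹ ^ i * a) ≤ 1 := fun i a ha => by
    rw [map_mul, map_pow, map_inv₀, show v π = exp (-1 : ℤ) from hπ, ← exp_neg, ← exp_nsmul]
    refine (mul_le_mul_right ha _).trans_eq ?_
    rw [← exp_add, ← exp_zero]
    simp
  haveI hint : IsIntegral R (C • W) := by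
    rw [hC]
    apply isIntegral_of_exists_lift R <;>
      apply IsDiscreteValuationRing.exists_lift_of_le_one (A := R) <;>
      simp only [C₂, variableChange_def, Units.val_inv_eq_inv_val, Units.val_mk0, mul_zero, add_zero,
        zero_mul, sub_zero, ne_eq, OfNat.ofNat_ne_zero, not_false_eq_true, zero_pow]
    · rw [← pow_one π⁻¹]
      exact hπi 1 (le_exp_sub_one (n := 0) (by rw [exp_zero]; exact hS₂.a₁))
    · exact hπi 2 hb
    · exact hπi 3 hc
    · rw [h4', mul_zero, map_zero]; exact zero_le_one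
    · rw [h6, mul_zero, map_zero]; exact zero_le_one
  have hΔ : W.Δ ≠ 0 := W.isUnit_Δ.ne_zero
  have hlt' : v W.Δ < v (C • W).Δ := by
    rw [variableChange_Δ, map_mul]
    have hu : ((C.u⁻¹ : Kˣ) : K) = π⁻¹ := by simp [C, C₂, VariableChange.mul_def]
    rw [hu, map_pow, map_inv₀, show v π = exp (-1 : ℤ) from hπ, ← exp_neg, ← exp_nsmul]
    refine lt_mul_of_one_lt_left (zero_lt_iff.2 ((map_ne_zero v).2 hΔ)) ?_
    rw [← exp_zero, exp_lt_exp]
    norm_num
  have hmax := (IsMinimal.val_Δ_maximal (R := R) (W := W)).2 hint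
  simp only [one_smul, ← Subtype.coe_le_coe, valuation_Δ_aux_eq_of_isIntegral] at hmax
  exact not_lt.2 (hmax hlt'.le) hlt'

end Groth.Agent.EllAddTors
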