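import Groth.Agent.EllAddTors.Filtration
import Mathlib

/-!
Torsion points off the cusp, translation of points under `(x, y) ↦ (x - r, y - s (x - r) - t)`.
-/

set_option autoImplicit false

namespace Groth.Agent.EllAddTors

open WeierstrassCurve

variable {K Γ : Type*} [Field K] [DecidableEq K] [LinearOrderedCommGroupWithZero Γ]
variable {v : Valuation K Γ} {W : Affine K}

/-- A torsion point of order prime to the residue characteristic which does not reduce to the cusp is zero. -/
theorem eq_zero_of_nsmul (hW : Small v W) (Q : W.Point) (hQ : InE v W Q) (n : ℕ) (hn : v (n : K) = 1)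
    (h : n • Q = 0) : Q = 0 := by
  rcases Q with _ | ⟨x, y, hns⟩
  · rfl
  exfalso
  set Q : W.Point := Affine.Point.some x y hns with hQd
  obtain ⟨hy, -, c⟩ := coord_of_nonsing hW hns.1 hQ
  set g := v (zc W Q) with hgd
  have hg : 0 < g := by
    refine zero_lt_iff.2 fun h0 => ?_
    have := le_antisymm ((c.w_le_z hW).trans h0.le) zero_le
    rw [map_eq_zero, div_eq_zero_iff] at this
    exact this.elim (neg_ne_zero.2 one_ne_zero) hy
  have hg1 : g ≤ 1 := c.z_le
  have key : ∀ m : ℕ, InE v W (m • Q) ∧ v (zc W (m • Q) - m * zc W Q) < g := by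
    intro m
    induction m with
    | zero =>
      rw [zero_smul, Nat.cast_zero, zero_mul, sub_zero]
      exact ⟨trivial, by rw [show zc W 0 = 0 from rfl, map_zero]; exact hg⟩
    | succ m ih =>
      have hm : v (zc W (m • Q)) ≤ g := by
        rw [show zc W (m • Q) = (zc W (m • Q) - m * zc W Q) + m * zc W Q by ring]
        exact v.map_add_le ih.2.le (mul_le_right (natCast_le m) le_rfl)
      obtain ⟨h1, h2⟩ := add_est hW hg hg1 (m • Q) Q ih.1 hQ hm le_rfl
      rw [succ_nsmul]
      refine ⟨h1, ?_⟩
      rw [show zc W (m • Q + Q) - ((m + 1 : ℕ) : K) * zc W Q =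
        (zc W (m • Q + Q) - zc W (m • Q) - zc W Q) + (zc W (m • Q) - m * zc W Q) by push_cast; ring]
      exact v.map_add_lt h2 ih.2
  have := (key n).2
  rw [h, show zc W 0 = 0 from rfl, zero_sub, v.map_neg, map_mul, hn, one_mul] at this
  exact this.ne rfl

section Shift

variable (W) (r s t : K)

/-- The translated curve. -/
abbrev shiftW : Affine K := VariableChange.mk 1 r s t • W

omit [DecidableEq K] in
theorem equation_shift {x y : K} :
    (shiftW W r s t).Equation (x - r) (y - s * (x - r) - t) ↔ W.Equation x y := by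
  rw [Affine.equation_iff, Affine.equation_iff]
  simp only [shiftW, variableChange_def, inv_one, Units.val_one, one_pow, one_mul]
  constructor <;> intro h <;> linear_combination h

variable [W.IsElliptic] [(shiftW W r s t).IsElliptic]

/-- The translation of points. -/
def shiftPt : W.Point → (shiftW W r s t).Point
  | .zero => .zero
  | .some x y h => .some (x - r) (y - s * (x - r) - t)
      (Affine.equation_iff_nonsingular.1 ((equation_shift W r s t).2 h.1))

omit [DecidableEq K] in
theorem shiftPt_zero : shiftPt W r s t 0 = 0 := rfl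

omit [DecidableEq K] in
theorem shiftPt_injective : Function.Injective (shiftPt W r s t) := by
  rintro (_ | ⟨x, y, h⟩) (_ | ⟨x', y', h'⟩) e <;> simp only [shiftPt, reduceCtorEq] at e ⊢
  obtain ⟨h1, h2⟩ := Affine.Point.some.inj e
  obtain rfl : x = x' := by linear_combination h1
  obtain rfl : y = y' := by linear_combination h2
  rfl

omit [DecidableEq K] [W.IsElliptic] [(shiftW W r s t).IsElliptic] in
theorem negY_shift (x y : K) : (shiftW W r s t).negY (x - r) (y - s * (x - r) - t) =
    W.negY x y - s * (x - r) - t := by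
  simp only [Affine.negY, shiftW, variableChange_def, inv_one, Units.val_one, one_pow, one_mul]
  ring

theorem shiftPt_add (P Q : W.Point) :
    shiftPt W r s t (P + Q) = shiftPt W r s t P + shiftPt W r s t Q := by
  rcases P with _ | ⟨x₁, y₁, h₁⟩
  · rw [show (Affine.Point.zero : W.Point) = 0 from rfl, zero_add, shiftPt_zero, zero_add]
  rcases Q with _ | ⟨x₂, y₂, h₂⟩
  · rw [show (Affine.Point.zero : W.Point) = 0 from rfl, add_zero, shiftPt_zero, add_zero]
  by_cases hxy : x₁ = x₂ ∧ y₁ = W.negY x₂ y₂
  · rw [Affine.Point.add_of_Y_eq hxy.1 hxy.2, shiftPt_zero]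
    simp only [shiftPt]
    rw [Affine.Point.add_of_Y_eq (by rw [hxy.1]) (by rw [negY_shift, hxy.1, hxy.2])]
  · have hxy' : ¬(x₁ - r = x₂ - r ∧ y₁ - s * (x₁ - r) - t =
        (shiftW W r s t).negY (x₂ - r) (y₂ - s * (x₂ - r) - t)) := fun h => by
      rw [negY_shift] at h
      have hx : x₁ = x₂ := by linear_combination h.1
      subst hx
      exact hxy ⟨rfl, by linear_combination h.2⟩
    rw [Affine.Point.add_some hxy]
    simp only [shiftPt]
    rw [Affine.Point.add_some hxy']
    have hℓ : (shiftW W r s t).slope (x₁ - r) (x₂ - r) (y₁ - s * (x₁ - r) - t) (y₂ - s * (x₂ - r) - t) =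
        W.slope x₁ x₂ y₁ y₂ - s := by
      by_cases hx : x₁ = x₂
      · subst hx
        have hy : y₁ ≠ W.negY x₁ y₂ := fun h => hxy ⟨rfl, h⟩
        obtain rfl : y₁ = y₂ := Affine.Y_eq_of_Y_ne h₁.1 h₂.1 rfl hy
        rw [Affine.slope_of_Y_ne rfl hy, Affine.slope_of_Y_ne rfl (fun h => hxy' ⟨rfl, h⟩), negY_shift,
          show y₁ - s * (x₁ - r) - t - (W.negY x₁ y₁ - s * (x₁ - r) - t) = y₁ - W.negY x₁ y₁ by ring,
          div_sub' (sub_ne_zero.2 hy)]
        congr 1
        simp only [Affine.negY, shiftW, variableChange_def, inv_one, Units.val_one, one_pow, one_mul]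
        ring
      · rw [Affine.slope_of_X_ne hx, Affine.slope_of_X_ne (fun h => hx (by linear_combination h)),
          show x₁ - r - (x₂ - r) = x₁ - x₂ by ring, div_sub' (sub_ne_zero.2 hx)]
        congr 1
        ring
    rw [Affine.Point.some.injEq, hℓ]
    constructor
    · simp only [Affine.addX, shiftW, variableChange_def, inv_one, Units.val_one, one_pow, one_mul]
      ring
    · simp only [Affine.addY, Affine.negY, Affine.negAddY, Affine.addX, shiftW, variableChange_def,
        inv_one, Units.val_one, one_pow, one_mul]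
      ring

/-- Translation as a homomorphism. -/
def shiftHom : W.Point →+ (shiftW W r s t).Point where
  toFun := shiftPt W r s t
  map_zero' := rfl
  map_add' := shiftPt_add W r s t

theorem addOrderOf_shift (P : W.Point) : addOrderOf (shiftPt W r s t P) = addOrderOf P :=
  addOrderOf_injective (shiftHom W r s t) (shiftPt_injective W r s t) P

end Shift

end Groth.Agent.EllAddTors
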